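import Mathlib

/-!
# The degrees in a principal 2-block with Klein four defect groups and two odd primes

If `x + e` and `x` have no prime divisors besides `2`, `3` and `p` for the three non-principal
degrees, then `p = 5` and the degrees are `5, 3, 3`.
-/

set_option autoImplicit false

namespace Cfsg.Agent.Blocks.FourTimes

/-- A signed degree which is a power of three, respectively of `p`. -/
def IsThree (p x : ℕ) (e : ℤ) : Prop :=
  ∃ i l : ℕ, 1 ≤ i ∧ x = 3 ^ i ∧ (3 : ℤ) ^ i + e = 2 * (p : ℤ) ^ l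

/-- See `IsThree`. -/
def IsPPow (p x : ℕ) (e : ℤ) : Prop :=
  ∃ j k : ℕ, 1 ≤ j ∧ 1 ≤ k ∧ x = p ^ j ∧ (p : ℤ) ^ j + e = 2 * (3 : ℤ) ^ k

theorem pow_three_inj {a b u v : ℕ} (hu : ¬ 3 ∣ u) (hv : ¬ 3 ∣ v) (h : 3 ^ a * u = 3 ^ b * v) :
    a = b ∧ u = v := by
  induction a generalizing b with
  | zero =>
    cases b with
    | zero => exact ⟨rfl, by simpa using h⟩
    | succ b =>
      exact absurd ⟨3 ^ b * v, by rw [← mul_assoc, ← pow_succ', ← h]; simp⟩ hu
  | succ a ih =>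
    cases b with
    | zero =>
      exact absurd ⟨3 ^ a * u, by rw [← mul_assoc, ← pow_succ', h]; simp⟩ hv
    | succ b =>
      have h' : 3 ^ a * u = 3 ^ b * v := by
        apply Nat.eq_of_mul_eq_mul_left (show 0 < 3 by norm_num)
        rw [← mul_assoc, ← mul_assoc, ← pow_succ', ← pow_succ']
        exact h
      exact ⟨by rw [(ih h').1], (ih h').2⟩

theorem not_three_dvd_pow_add {d c : ℕ} (hd : 1 ≤ d) (hc : ¬ 3 ∣ c) : ¬ 3 ∣ 3 ^ d + c := fun h =>
  hc ((Nat.dvd_add_right (dvd_pow_self 3 (by omega))).mp h)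

theorem not_three_dvd_two_mul_pow {d : ℕ} (hd : 1 ≤ d) : ¬ 3 ∣ 2 * 3 ^ d + 1 := by
  intro h
  have : 3 ∣ 2 * 3 ^ d := (dvd_pow_self 3 (by omega)).mul_left 2
  omega

theorem two_powers {a b k : ℕ} (h : 3 ^ a + 3 ^ b = 2 * 3 ^ k) : a = k ∧ b = k := by
  suffices H : ∀ a b : ℕ, a ≤ b → 3 ^ a + 3 ^ b = 2 * 3 ^ k → a = k ∧ b = k by
    rcases le_total a b with hab | hab
    · exact H a b hab h
    · exact (H b a hab (by omega)).symm
  intro a b hab h
  obtain ⟨d, rfl⟩ := Nat.exists_eq_add_of_le hab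
  by_cases hd : d = 0
  · subst hd
    simp only [add_zero] at h ⊢
    have h2 : 3 ^ a = 3 ^ k := by omega
    have := Nat.pow_right_injective (le_refl 2 |>.trans (by norm_num)) h2
    exact ⟨this, this⟩
  · have h2 : 3 ^ a * (3 ^ d + 1) = 3 ^ k * 2 := by rw [pow_add] at h; linarith
    have := (pow_three_inj (not_three_dvd_pow_add (by omega) (by norm_num)) (by norm_num) h2).2
    have : 3 ^ 1 ≤ 3 ^ d := Nat.pow_le_pow_right (by norm_num) (by omega)
    omega

theorem power_sum {a b k : ℕ} (h : 3 ^ b = 3 ^ a + 2 * 3 ^ k) : a = k ∧ b = k + 1 := by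
  rcases lt_trichotomy a k with hak | hak | hak
  · obtain ⟨d, rfl⟩ := Nat.exists_eq_add_of_le hak.le
    have h2 : 3 ^ a * (2 * 3 ^ d + 1) = 3 ^ b * 1 := by rw [pow_add] at h; rw [mul_one, h]; ring
    have := (pow_three_inj (not_three_dvd_two_mul_pow (by omega)) (by norm_num) h2).2
    have : 0 < 3 ^ d := pow_pos (by norm_num) _
    omega
  · subst hak
    have h2 : 3 ^ b = 3 ^ (a + 1) := by rw [pow_succ]; omega
    exact ⟨rfl, Nat.pow_right_injective (by norm_num) h2⟩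
  · obtain ⟨d, rfl⟩ := Nat.exists_eq_add_of_le hak.le
    have h2 : 3 ^ k * (3 ^ d + 2) = 3 ^ b * 1 := by rw [pow_add] at h; rw [mul_one, h]; ring
    have h3 : 3 ^ d + 2 = 1 :=
      (pow_three_inj (not_three_dvd_pow_add (by omega) (by norm_num)) (by norm_num) h2).2
    exfalso
    linarith [pow_pos (show 0 < 3 by norm_num) d]

variable {p : ℕ}

theorem not_dvd_sign (hp : 2 ≤ p) {e : ℤ} (he : e = 1 ∨ e = -1) : ¬ (p : ℤ) ∣ e := by
  intro h
  have h1 : (p : ℤ) ∣ 1 := by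
    rcases he with rfl | rfl
    · exact h
    · exact dvd_neg.mp h
  have := Int.le_of_dvd one_pos h1
  omega

/-- A degree with its sign is of one of two shapes. -/
theorem shape (hp : p.Prime) (hp5 : 5 ≤ p) {x : ℕ} {e : ℤ} (he : e = 1 ∨ e = -1) (hx1 : x ≠ 1)
    {i j k l : ℕ} (hx : x = 3 ^ i * p ^ j)
    (hxe : (x : ℤ) + e = 2 * (3 : ℤ) ^ k * (p : ℤ) ^ l) :
    IsThree p x e ∨ IsPPow p x e := by
  have hik : i = 0 ∨ k = 0 := by
    by_contra hc
    push Not at hc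
    refine not_dvd_sign (p := 3) (by norm_num) he ?_
    have h1 : (3 : ℤ) ∣ (x : ℤ) := by
      rw [hx]; push_cast; exact (dvd_pow_self _ hc.1).mul_right _
    have h2 : (3 : ℤ) ∣ (x : ℤ) + e := by
      rw [hxe]; exact ((dvd_pow_self _ hc.2).mul_left _).mul_right _
    simpa using (dvd_add_right h1).mp h2
  have hjl : j = 0 ∨ l = 0 := by
    by_contra hc
    push Not at hc
    refine not_dvd_sign (p := p) hp.two_le he ?_
    have h1 : (p : ℤ) ∣ (x : ℤ) := by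
      rw [hx]; push_cast; exact (dvd_pow_self _ hc.1).mul_left _
    have h2 : (p : ℤ) ∣ (x : ℤ) + e := by rw [hxe]; exact (dvd_pow_self _ hc.2).mul_left _
    exact (dvd_add_right h1).mp h2
  have hp1 : ∀ j : ℕ, j ≠ 0 → (5 : ℤ) ≤ (p : ℤ) ^ j := fun j hj => by
    have := Nat.le_self_pow hj p
    exact_mod_cast (le_trans hp5 this)
  by_cases hi : i = 0
  · subst hi
    simp only [pow_zero, one_mul] at hx
    have hj : j ≠ 0 := fun h => hx1 (by rw [hx, h, pow_zero])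
    have hl : l = 0 := hjl.resolve_left hj
    subst hl
    rw [pow_zero, mul_one, hx, Nat.cast_pow] at hxe
    refine Or.inr ⟨j, k, by omega, ?_, hx, hxe⟩
    rcases Nat.eq_zero_or_pos k with rfl | hk
    · have := hp1 j hj
      rcases he with rfl | rfl <;> simp at hxe <;> omega
    · exact hk
  · have hk : k = 0 := hik.resolve_left hi
    subst hk
    rw [pow_zero, mul_one] at hxe
    by_cases hj : j = 0
    · subst hj
      rw [pow_zero, mul_one] at hx
      exact Or.inl ⟨i, l, by omega, hx, by rw [← hxe, hx, Nat.cast_pow, Nat.cast_ofNat]⟩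
    · have hl : l = 0 := hjl.resolve_left hj
      subst hl
      rw [pow_zero, mul_one, hx] at hxe
      push_cast at hxe
      have h3 : (3 : ℤ) ≤ 3 ^ i := by
        simpa using pow_le_pow_right₀ (show (1 : ℤ) ≤ 3 by norm_num) (show 1 ≤ i by omega)
      have := mul_le_mul h3 (hp1 j hj) (by norm_num) (by positivity)
      rcases he with rfl | rfl <;> omega

theorem IsThree.dvd {x : ℕ} {e : ℤ} (h : IsThree p x e) : (3 : ℤ) ∣ e * x := by
  obtain ⟨i, l, hi, rfl, -⟩ := h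
  push_cast
  exact (dvd_pow_self _ (by omega)).mul_left _

theorem IsPPow.dvd {x : ℕ} {e : ℤ} (he : e = 1 ∨ e = -1) (h : IsPPow p x e) :
    (3 : ℤ) ∣ e * x + 1 := by
  obtain ⟨j, k, -, hk, rfl, hxe⟩ := h
  have h1 : e * ((p ^ j : ℕ) : ℤ) + 1 = 2 * e * 3 ^ k := by
    push_cast
    rcases he with rfl | rfl <;> linarith
  rw [h1]
  exact (dvd_pow_self _ (by omega)).mul_left _

/-- Two powers of three and one power of `p`. -/
theorem three_three_p (hp : p.Prime) (hp5 : 5 ≤ p) {a b c : ℕ} {ea eb ec : ℤ}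
    (hea : ea = 1 ∨ ea = -1) (heb : eb = 1 ∨ eb = -1) (hec : ec = 1 ∨ ec = -1)
    (ha : IsThree p a ea) (hb : IsThree p b eb) (hc : IsPPow p c ec)
    (hrel : 1 + ea * a + eb * b + ec * c = 0) : p = 5 ∧ a = 3 ∧ b = 3 ∧ c = 5 := by
  obtain ⟨i, la, hi, rfl, hia⟩ := ha
  obtain ⟨i', lb, hi', rfl, hib⟩ := hb
  obtain ⟨j, k, hj, hk, rfl, hjk⟩ := hc
  push_cast at hrel
  have hnp3 : ¬ (p : ℤ) ∣ (3 : ℤ) ^ k := fun h => by
    have h' : p ∣ 3 ^ k := by exact_mod_cast h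
    have := Nat.le_of_dvd (by norm_num) (hp.dvd_of_dvd_pow h')
    omega
  have hpj : (p : ℤ) ∣ (p : ℤ) ^ j := dvd_pow_self _ (by omega)
  have h3k : (3 : ℤ) ≤ 3 ^ k := by
    simpa using pow_le_pow_right₀ (show (1 : ℤ) ≤ 3 by norm_num) hk
  -- the case with the two equal powers
  have caseI : ∀ e : ℤ, (e = 1 ∨ e = -1) → ∀ l : ℕ, (3 : ℤ) ^ k - e = 2 * (p : ℤ) ^ l →
      (p : ℤ) ^ j + e = 2 * 3 ^ k → p = 5 ∧ 3 ^ k = 3 ∧ p ^ j = 5 := by
    intro e he l h1 h2
    rcases Nat.eq_zero_or_pos l with rfl | hl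
    · rw [pow_zero] at h1
      have he1 : e = 1 := by omega
      have h3 : (3 : ℤ) ^ k = 3 := by omega
      have h5 : (p : ℤ) ^ j = 5 := by omega
      have h5' : p ^ j = 5 := by exact_mod_cast h5
      refine ⟨?_, by exact_mod_cast h3, h5'⟩
      have := Nat.le_self_pow (n := j) (by omega) p
      omega
    · refine absurd ?_ hnp3
      have h4 : (p : ℤ) ∣ (3 : ℤ) ^ k - e := h1 ▸ (dvd_pow_self _ (by omega)).mul_left _
      have h5 : (3 : ℤ) ^ k = (p : ℤ) ^ j - (3 ^ k - e) := by linarith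
      rw [h5]; exact dvd_sub hpj h4
  -- the case with the distinct powers
  have caseII : ∀ e : ℤ, (e = 1 ∨ e = -1) → ∀ l : ℕ, (3 : ℤ) ^ (k + 1) - e = 2 * (p : ℤ) ^ l →
      (p : ℤ) ^ j + e = 2 * 3 ^ k → False := by
    intro e he l h1 h2
    rw [pow_succ] at h1
    rcases Nat.eq_zero_or_pos l with rfl | hl
    · rw [pow_zero] at h1; omega
    · refine not_dvd_sign hp.two_le he ?_
      have h4 : (p : ℤ) ∣ (3 : ℤ) ^ k * 3 - e := h1 ▸ (dvd_pow_self _ (by omega)).mul_left _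
      have h5 : e = 2 * ((3 : ℤ) ^ k * 3 - e) - 3 * (p : ℤ) ^ j := by linarith
      rw [h5]; exact dvd_sub (h4.mul_left _) (hpj.mul_left _)
  have hA : (0 : ℤ) < 3 ^ i := by positivity
  have hB : (0 : ℤ) < 3 ^ i' := by positivity
  have key : (ea = -ec ∧ eb = -ec ∧ 3 ^ i + 3 ^ i' = 2 * 3 ^ k) ∨
      (ea = ec ∧ eb = -ec ∧ 3 ^ i' = 3 ^ i + 2 * 3 ^ k) ∨
      (ea = -ec ∧ eb = ec ∧ 3 ^ i = 3 ^ i' + 2 * 3 ^ k) := by
    rcases hec with rfl | rfl <;> rcases hea with rfl | rfl <;> rcases heb with rfl | rfl <;>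
      simp only [one_mul, neg_mul] at hrel <;>
      first
        | (exfalso; linarith)
        | exact Or.inl ⟨by norm_num, by norm_num,
            by exact_mod_cast (show (3 : ℤ) ^ i + 3 ^ i' = 2 * 3 ^ k by linarith)⟩
        | exact Or.inr (Or.inl ⟨by norm_num, by norm_num,
            by exact_mod_cast (show (3 : ℤ) ^ i' = 3 ^ i + 2 * 3 ^ k by linarith)⟩)
        | exact Or.inr (Or.inr ⟨by norm_num, by norm_num,
            by exact_mod_cast (show (3 : ℤ) ^ i = 3 ^ i' + 2 * 3 ^ k by linarith)⟩)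
  rcases key with ⟨he1, he2, h⟩ | ⟨he1, he2, h⟩ | ⟨he1, he2, h⟩
  · obtain ⟨rfl, rfl⟩ := two_powers h
    obtain ⟨h5, h3, hc5⟩ := caseI ec hec la (by rw [← hia, he1]; ring) hjk
    exact ⟨h5, h3, h3, hc5⟩
  · obtain ⟨rfl, rfl⟩ := power_sum h
    exact (caseII ec hec lb (by rw [← hib, he2]; ring) hjk).elim
  · obtain ⟨rfl, rfl⟩ := power_sum h
    exact (caseII ec hec la (by rw [← hia, he1]; ring) hjk).elim

/-- The three non-principal degrees are `5, 3, 3`. -/
theorem degrees (hp : p.Prime) (hp5 : 5 ≤ p) {a b c : ℕ} {ea eb ec : ℤ}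
    (hea : ea = 1 ∨ ea = -1) (heb : eb = 1 ∨ eb = -1) (hec : ec = 1 ∨ ec = -1)
    (ha : IsThree p a ea ∨ IsPPow p a ea) (hb : IsThree p b eb ∨ IsPPow p b eb)
    (hc : IsThree p c ec ∨ IsPPow p c ec)
    (hrel : 1 + ea * a + eb * b + ec * c = 0) :
    p = 5 ∧ ((a = 5 ∧ b = 3 ∧ c = 3) ∨ (a = 3 ∧ b = 5 ∧ c = 3) ∨ (a = 3 ∧ b = 3 ∧ c = 5)) := by
  rcases ha with ha | ha <;> rcases hb with hb | hb <;> rcases hc with hc | hc
  · have := ha.dvd; have := hb.dvd; have := hc.dvd; omega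
  · obtain ⟨h, h1, h2, h3⟩ := three_three_p hp hp5 hea heb hec ha hb hc hrel
    exact ⟨h, Or.inr (Or.inr ⟨h1, h2, h3⟩)⟩
  · obtain ⟨h, h1, h2, h3⟩ := three_three_p hp hp5 hea hec heb ha hc hb (by linarith)
    exact ⟨h, Or.inr (Or.inl ⟨h1, h3, h2⟩)⟩
  · have := ha.dvd; have := IsPPow.dvd heb hb; have := IsPPow.dvd hec hc; omega
  · obtain ⟨h, h1, h2, h3⟩ := three_three_p hp hp5 heb hec hea hb hc ha (by linarith)
    exact ⟨h, Or.inl ⟨h3, h1, h2⟩⟩
  · have := IsPPow.dvd hea ha; have := hb.dvd; have := IsPPow.dvd hec hc; omega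
  · have := IsPPow.dvd hea ha; have := IsPPow.dvd heb hb; have := hc.dvd; omega
  · have := IsPPow.dvd hea ha; have := IsPPow.dvd heb hb; have := IsPPow.dvd hec hc; omega

end Cfsg.Agent.Blocks.FourTimes
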