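import Cfsg.Agent.Lib.Blocks.FourTimes.Three
import Mathlib.GroupTheory.Transfer

/-!
# Simple groups of order `3 · p^a q^b`, `a ≤ 2`
-/

set_option autoImplicit false
set_option linter.unusedSectionVars false

namespace Cfsg.Agent.Blocks.FourTimes

open CT Blocks

universe u

variable {G : Type u} [Group G] [Fintype G] [IsSimpleGroup G]

/-- Eight does not divide a number with two-part `2 ^ a`, `a ≤ 2`. -/
theorem not_eight_dvd {a n : ℕ} (ha : a ≤ 2) (hn : Odd n) : ¬ 8 ∣ 2 ^ a * n := fun h => by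
  obtain ⟨c, rfl⟩ := hn
  interval_cases a <;> omega

theorem psl_cases {p b : ℕ} (hp : p.Prime) (hp2 : p ≠ 2) (hp5 : 5 ≤ p)
    (h : p * 2 ^ b * 3 * 2 = p * (p - 1) * (p + 1)) :
    p * 2 ^ b * 3 = 60 ∨ p * 2 ^ b * 3 = 168 := by
  obtain ⟨d, rfl⟩ := hp.odd_of_ne_two hp2
  rw [show 2 * d + 1 - 1 = 2 * d by omega] at h
  have h1 : 2 * (d * (d + 1)) = 2 ^ b * 3 := by
    have h0 : (2 * d + 1) * 2 * (2 * (d * (d + 1))) = (2 * d + 1) * 2 * (2 ^ b * 3) := by
      linarith
    exact Nat.eq_of_mul_eq_mul_left (by omega) h0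
  -- the odd factor divides three
  have hodd : ∀ m : ℕ, Odd m → m ∣ 2 * (d * (d + 1)) → m ≤ 3 := fun m hm hd => by
    rw [h1] at hd
    exact Nat.le_of_dvd (by norm_num)
      ((Nat.Coprime.pow_right b (Nat.coprime_two_right.mpr hm)).dvd_of_dvd_mul_left hd)
  have hd3 : d ≤ 3 := by
    rcases Nat.even_or_odd d with he | ho
    · have := hodd (d + 1) (he.add_odd odd_one) ((dvd_mul_left _ d).mul_left 2)
      omega
    · exact hodd d ho ((dvd_mul_right _ _).mul_left 2)
  interval_cases d
  · omega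
  · omega
  · left; norm_num at h1 ⊢; omega
  · right; norm_num at h1 ⊢; omega

theorem natCard_PSL2_even {F : Type} [Field F] [Fintype F] {m : ℕ}
    (hF : Fintype.card F = 2 ^ m) :
    Nat.card (Matrix.ProjectiveSpecialLinearGroup (Fin 2) F) =
      2 ^ m * (2 ^ m - 1) * (2 ^ m + 1) := by
  have h1 := LinGrp.natCard_PSL_mul (n := Fin 2) (F := F)
  have h2 := LinGrp.natCard_SL_mul (F := F) 2 (by omega)
  rw [Fintype.card_fin, Nat.card_eq_fintype_card (α := F)] at h1
  rw [hF] at h1 h2
  have hm : m ≠ 0 := fun h => by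
    have := Fintype.one_lt_card (α := F)
    rw [hF, h] at this
    norm_num at this
  obtain ⟨q, hq⟩ : ∃ q, 2 ^ m = q + 1 := ⟨2 ^ m - 1, by have := Nat.one_le_two_pow (n := m); omega⟩
  have hq0 : q % 2 = 1 := by
    have : 2 ∣ 2 ^ m := dvd_pow_self 2 hm
    omega
  rw [hq] at h1 h2 ⊢
  rw [Fin.prod_univ_two] at h2
  simp only [Fin.val_zero, Fin.val_one, pow_zero, pow_one, Nat.add_sub_cancel] at h1 h2 ⊢
  have hg : Nat.gcd 2 q = 1 := Nat.coprime_two_left.mpr (Nat.odd_iff.mpr hq0)
  rw [hg, one_mul] at h1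
  have e1 : (q + 1) ^ 2 - 1 = q * (q + 2) := by
    rw [Nat.sub_eq_iff_eq_add (by nlinarith)]; ring
  have e2 : (q + 1) ^ 2 - (q + 1) = (q + 1) * q := by
    rw [Nat.sub_eq_iff_eq_add (by nlinarith)]; ring
  rw [e1, e2] at h2
  refine Nat.eq_of_mul_eq_mul_left (show 0 < q by omega) ?_
  rw [h1, h2]; ring

theorem psl_even {p b m : ℕ} (hp5 : 5 ≤ p) (hm : p = 2 ^ m + 1)
    (h : p * 2 ^ b * 3 = 2 ^ m * (2 ^ m - 1) * (2 ^ m + 1)) : p * 2 ^ b * 3 = 60 := by
  have hd : 2 ^ m - 1 ∣ 2 ^ b * 3 := by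
    refine ⟨2 ^ m, ?_⟩
    refine Nat.eq_of_mul_eq_mul_left (show 0 < p by omega) ?_
    rw [← mul_assoc, h, hm]; ring
  have hodd : Odd (2 ^ m - 1) := by
    rcases m with _ | m
    · norm_num at hm; omega
    · rw [Nat.odd_iff, pow_succ]; have := Nat.one_le_two_pow (n := m); omega
  have h3 := Nat.le_of_dvd (by norm_num)
    ((Nat.Coprime.pow_right b (Nat.coprime_two_right.mpr hodd)).dvd_of_dvd_mul_left hd)
  have h4 : 2 ^ m = 4 := by
    rcases m with _ | _ | _ | m
    · norm_num at hm; omega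
    · norm_num at hm; omega
    · norm_num
    · rw [pow_succ, pow_succ, pow_succ] at h3; have := Nat.one_le_two_pow (n := m); omega
  rw [h, h4]

/-- A non-abelian simple group of order `4 p^a q^b`. -/
theorem four (hnc : ¬ IsMulCommutative G) {p q a b : ℕ} (hp : p.Prime) (hq : q.Prime)
    (hpq : p ≠ q) (hG : Nat.card G = 4 * p ^ a * q ^ b) : Nat.card G = 60 := by
  by_cases hp2 : p = 2
  · exact absurd (by rw [hG, hp2, show (4 : ℕ) = 2 ^ 2 from rfl, ← pow_add]
      : Nat.card G = 2 ^ (2 + a) * q ^ b) (not_solvable hnc Nat.prime_two hq)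
  by_cases hq2 : q = 2
  · exact absurd (by rw [hG, hq2, show (4 : ℕ) = 2 ^ 2 from rfl]; ring
      : Nat.card G = 2 ^ (2 + b) * p ^ a) (not_solvable hnc Nat.prime_two hp)
  have hodd : Odd (p ^ a * q ^ b) :=
    ((hp.odd_of_ne_two hp2).pow).mul ((hq.odd_of_ne_two hq2).pow)
  have h2 : Even (Nat.card G) := ⟨2 * (p ^ a * q ^ b), by rw [hG]; ring⟩
  have h8 : ¬ 8 ∣ Nat.card G := by
    rw [hG, mul_assoc]
    exact not_eight_dvd (a := 2) le_rfl hodd
  have h3 : 3 ∣ p ^ a * q ^ b :=
    (Nat.Coprime.dvd_of_dvd_mul_left (k := 3) (m := 4) (by norm_num)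
      (by rw [← mul_assoc, ← hG]; exact three_dvd hnc h2 h8))
  have hfive : ∀ r : ℕ, r.Prime → r ≠ 2 → r ≠ 3 → 5 ≤ r := fun r hr h h' => by
    have h4 : r ≠ 4 := fun e => absurd hr (by rw [e]; norm_num)
    have := hr.two_le
    omega
  rcases Nat.prime_three.dvd_mul.mp h3 with h | h
  · obtain rfl := (Nat.prime_dvd_prime_iff_eq Nat.prime_three hp).mp
      (Nat.prime_three.dvd_of_dvd_pow h)
    exact card_sixty hnc hq (hfive q hq hq2 hpq.symm) (hG.trans (mul_assoc _ _ _))
  · obtain rfl := (Nat.prime_dvd_prime_iff_eq Nat.prime_three hq).mp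
      (Nat.prime_three.dvd_of_dvd_pow h)
    exact card_sixty hnc hp (hfive p hp hp2 hpq) (x := b) (y := a) (by rw [hG]; ring)

/-- A non-abelian simple group of order `3 p^a q^b` with `a ≤ 2`. -/
theorem three (hnc : ¬ IsMulCommutative G) {p q a b : ℕ} (hp : p.Prime) (hq : q.Prime)
    (hpq : p ≠ q) (ha : a ≤ 2) (hG : Nat.card G = 3 * p ^ a * q ^ b) :
    Nat.card G = 60 ∨ Nat.card G = 168 := by
  haveI : Fact (Nat.Prime 3) := ⟨Nat.prime_three⟩
  by_cases hp3 : p = 3
  · exact absurd (by rw [hG, hp3, ← pow_succ'] : Nat.card G = 3 ^ (a + 1) * q ^ b)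
      (not_solvable hnc Nat.prime_three hq)
  by_cases hq3 : q = 3
  · exact absurd (by rw [hG, hq3]; ring : Nat.card G = 3 ^ (b + 1) * p ^ a)
      (not_solvable hnc Nat.prime_three hp)
  by_cases h2 : p = 2 ∨ q = 2
  · rcases h2 with rfl | rfl
    · -- the Sylow two-subgroup has order at most four
      have hqo := hq.odd_of_ne_two hpq.symm
      have hodd : Odd (3 * q ^ b) := (show Odd 3 by decide).mul hqo.pow
      interval_cases a
      · exact absurd (by rw [hG]; ring : Nat.card G = 3 ^ 1 * q ^ b)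
          (not_solvable hnc Nat.prime_three hq)
      · exfalso
        have hev : Even (Nat.card G) := ⟨3 * q ^ b, by rw [hG]; ring⟩
        have h8 : ¬ 8 ∣ Nat.card G := by
          rw [hG, show 3 * 2 ^ 1 * q ^ b = 2 ^ 1 * (3 * q ^ b) by ring]
          exact not_eight_dvd (by norm_num) hodd
        obtain ⟨T⟩ : Nonempty (Sylow 2 G) := inferInstance
        obtain ⟨hK, -⟩ := Cfsg.Agent.S0992.result hnc hev h8 T
        have h4 : 4 ∣ Nat.card G := hK.card_four ▸ Subgroup.card_subgroup_dvd_card _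
        rw [hG, show 3 * 2 ^ 1 * q ^ b = 2 * (3 * q ^ b) by ring] at h4
        obtain ⟨c, hc⟩ := hodd
        omega
      · exact Or.inl (four hnc Nat.prime_three hq (Ne.symm hq3) (a := 1) (b := b)
          (by rw [hG]; ring))
    · have hp5 : 5 ≤ p := by
        have h4 : p ≠ 4 := fun e => absurd hp (by rw [e]; norm_num)
        have := hp.two_le
        omega
      interval_cases a
      · exact absurd (by rw [hG]; ring : Nat.card G = 2 ^ b * 3 ^ 1)
          (not_solvable hnc Nat.prime_two Nat.prime_three)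
      · haveI : Fact p.Prime := ⟨hp⟩
        have hc : Nat.card G = p * 2 ^ b * 3 := by rw [hG]; ring
        obtain ⟨-, h⟩ := SmallCofactor.classify hnc Nat.prime_two hpq hc (by omega)
        rcases h with ⟨m, F, i1, i2, hF, hm, h5, ⟨i⟩⟩ | ⟨m, F, i1, i2, hF, hm, h3, ⟨i⟩⟩
        · have hcard := RecognizePSL.natCard_PSL2 (F := F)
            (by rw [hF]; exact Nat.odd_iff.mp (hp.odd_of_ne_two hpq))
          rw [hF, ← Nat.card_congr i.toEquiv, hc] at hcard
          rcases psl_cases hp hpq hp5 hcard with h | h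
          · exact Or.inl (by rw [hc]; exact h)
          · exact Or.inr (by rw [hc]; exact h)
        · have hcard := natCard_PSL2_even hF
          rw [← Nat.card_congr i.toEquiv, hc] at hcard
          exact Or.inl (by rw [hc]; exact psl_even hp5 hm hcard)
      · exact absurd (by rw [hG]; ring : Nat.card G = 3 * 2 ^ b * p ^ 2) (not_sq hnc hp hp5)
  · -- odd order
    push Not at h2
    exfalso
    have hodd : Odd (Nat.card G) := by
      rw [hG]
      exact ((show Odd 3 by decide).mul (hp.odd_of_ne_two h2.1).pow).mul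
        (hq.odd_of_ne_two h2.2).pow
    obtain ⟨T⟩ : Nonempty (Sylow 3 G) := inferInstance
    have hfac : (Nat.card G).factorization 3 = 1 := by
      rw [hG, mul_assoc, Nat.factorization_mul (by norm_num)
        (mul_ne_zero (pow_ne_zero _ hp.ne_zero) (pow_ne_zero _ hq.ne_zero)), Finsupp.coe_add,
        Pi.add_apply, Nat.prime_three.factorization_self, Nat.factorization_eq_zero_of_not_dvd]
      intro h
      rcases Nat.prime_three.dvd_mul.mp h with h | h
      · exact hp3 ((Nat.prime_dvd_prime_iff_eq Nat.prime_three hp).mp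
          (Nat.prime_three.dvd_of_dvd_pow h)).symm
      · exact hq3 ((Nat.prime_dvd_prime_iff_eq Nat.prime_three hq).mp
          (Nat.prime_three.dvd_of_dvd_pow h)).symm
    have hT : Nat.card T = 3 := by rw [T.card_eq_multiplicity, hfac, pow_one]
    have hmin : (Nat.card G).minFac = 3 := by
      refine le_antisymm (Nat.minFac_le_of_dvd (by norm_num)
        (hT ▸ Subgroup.card_subgroup_dvd_card _)) ?_
      have h1 : Nat.card G ≠ 1 := fun h => by
        haveI := (Nat.card_eq_one_iff_unique.mp h).1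
        exact hnc ⟨⟨fun _ _ => Subsingleton.elim _ _⟩⟩
      have h2' := (Nat.minFac_prime h1).two_le
      have h3' : (Nat.card G).minFac ≠ 2 := fun h => by
        have := Nat.odd_iff.mp hodd
        have := Nat.minFac_dvd (Nat.card G)
        rw [h] at this
        omega
      omega
    haveI : IsCyclic (T : Subgroup G) := isCyclic_of_prime_card hT
    have hcompl := IsCyclic.isComplement' hmin (P := T) inferInstance
    have hcm := hcompl.card_mul
    rw [hT] at hcm
    rcases (MonoidHom.normal_ker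
        (MonoidHom.transferSylow T
          (IsCyclic.normalizer_le_centralizer hmin (P := T) inferInstance))).eq_bot_or_eq_top
      with h | h
    · rw [h, Subgroup.card_bot, one_mul] at hcm
      haveI : IsCyclic G := isCyclic_of_prime_card hcm.symm
      exact hnc ⟨⟨fun x y => (IsCyclic.commGroup (α := G)).mul_comm x y⟩⟩
    · rw [h, Subgroup.card_top] at hcm
      have := (Nat.card_pos (α := G))
      omega

end Cfsg.Agent.Blocks.FourTimes
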