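import Cfsg.Agent.Lib.Blocks.GaloisStable
import Cfsg.Agent.Lib.Blocks.SmallCofactor.Structure
import Cfsg.Agent.Lib.CT.RationalPBound

/-!
# The Schur bound for a character of a principal block determined by its degree
-/

set_option autoImplicit false
set_option linter.unusedSectionVars false

namespace Cfsg.Agent.Blocks.FourTimes

open CT Blocks

universe u

variable {G : Type u} [Group G] [Fintype G] {M : Ideal AlgInt} [M.IsPrime]

theorem deg_eq_charDegree (χ : IrrCharacter G) : deg (χ : G → ℂ) = charDegree (χ : G → ℂ) := by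
  obtain ⟨m, hm⟩ := CT.exists_degree (isCharacter_of_isIrr χ.2)
  simp [CT.deg, Cfsg.charDegree, hm]

/-- The only character of its degree in the principal block is fixed by the power maps. -/
theorem apply_pow_eq {χ : IrrCharacter G} (hχ : χ ∈ principalBlock M G)
    (huniq : ∀ ψ ∈ principalBlock M G, charDegree (ψ : G → ℂ) = charDegree (χ : G → ℂ) → ψ = χ)
    {k : ℕ} (hk : k.Coprime (Nat.card G)) (g : G) : (χ : G → ℂ) (g ^ k) = (χ : G → ℂ) g := by
  have ht : ((powIrr hk (trivIrr G) : IrrCharacter G) : G → ℂ) = fun _ => 1 :=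
    funext fun x => by rw [powIrr_apply, trivIrr_apply]
  have ht' : ((trivIrr G : IrrCharacter G) : G → ℂ) = fun _ => 1 := funext fun x => CT.trivIrr_apply _ x
  have hmem : powIrr hk χ ∈ principalBlock M G := by
    change SameBlock M (fun _ => 1) (powIrr hk χ : G → ℂ)
    rw [← ht]
    refine sameBlock_powIrr hk ?_
    rw [ht']
    exact hχ
  have hd : charDegree (powIrr hk χ : G → ℂ) = charDegree (χ : G → ℂ) := by
    rw [← deg_eq_charDegree, ← deg_eq_charDegree]
    simp [CT.deg, powIrr_apply]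
  rw [← powIrr_apply hk χ g, huniq _ hmem hd]

/-- The Schur bound for the only character of its degree in a principal block. -/
theorem sylow_bound [IsSimpleGroup G] {χ : IrrCharacter G} (hne : χ ≠ trivIrr G)
    (hχ : χ ∈ principalBlock M G)
    (huniq : ∀ ψ ∈ principalBlock M G, charDegree (ψ : G → ℂ) = charDegree (χ : G → ℂ) → ψ = χ)
    {r : ℕ} (hr : r.Prime) :
    (Nat.card G).factorization r ≤
      ∑ i ∈ Finset.range (charDegree (χ : G → ℂ) + 1),
        charDegree (χ : G → ℂ) / ((r - 1) * r ^ i) := by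
  rw [← deg_eq_charDegree]
  refine CT.RationalP.schur_bound hr (isCharacter_of_isIrr χ.2)
    (fun g hg => SmallCofactor.faithful_of_ne hne hg) ?_
  rintro g ⟨b, hb⟩ k hk
  have hn : Nat.card G ≠ 0 := Nat.card_pos.ne'
  set m := ordCompl[r] (Nat.card G) with hm
  have hcop : (r ^ (Nat.card G).factorization r).Coprime m :=
    Nat.Coprime.pow_left _ (Nat.coprime_ordCompl hr hn)
  obtain ⟨j, hj1, hj2⟩ := Nat.chineseRemainder hcop k 1
  have hjc : j.Coprime (Nat.card G) := by
    rw [← Nat.ordProj_mul_ordCompl_eq_self (Nat.card G) r, ← hm]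
    refine Nat.Coprime.mul_right ?_ ?_
    · rw [Nat.coprime_iff_gcd_eq_one, hj1.gcd_eq, ← Nat.coprime_iff_gcd_eq_one]
      exact hk.pow_right _
    · rw [Nat.coprime_iff_gcd_eq_one, hj2.gcd_eq]; simp
  rw [← apply_pow_eq hχ huniq hjc g]
  refine congrArg (χ : G → ℂ) (pow_eq_pow_iff_modEq.mpr ?_)
  obtain ⟨c, -, hc⟩ := (Nat.dvd_prime_pow hr).mp (orderOf_dvd_of_pow_eq_one hb)
  have hdvd : r ^ c ∣ Nat.card G := hc ▸ orderOf_dvd_natCard g
  rw [hc]
  exact (hj1.symm).of_dvd
    (pow_dvd_pow r ((hr.pow_dvd_iff_le_factorization hn).mp hdvd))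

end Cfsg.Agent.Blocks.FourTimes
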