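import Cfsg.Agent.Lib.Blocks.FourTimes.Arith
import Cfsg.Agent.Lib.Blocks.FourTimes.Rational
import Cfsg.Agent.Lib.Blocks.KleinOrder2
import Cfsg.Agent.Lib.Blocks.SmallCofactor.Main
import Cfsg.Agent.Lib.Blocks.DefectOnePrincipal
import Cfsg.Agent.S0992
import Cfsg.Agent.S0496
import Cfsg.Agent.S0494
import Cfsg.Agent.S0495

/-!
# Simple groups of order `4 p^a q^b` and `3 p^a q^b`
-/

set_option autoImplicit false
set_option linter.unusedSectionVars false

namespace Cfsg.Agent.Blocks.FourTimes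

open scoped Cfsg.Agent.Blocks.D1
open CT Blocks

universe u

variable {G : Type u} [Group G] [Fintype G] [IsSimpleGroup G]

theorem fac_of_dvd {q r x y d : ℕ} (hq : q.Prime) (hr : r.Prime) (h : d ∣ q ^ x * r ^ y) :
    ∃ i j, d = q ^ i * r ^ j := by
  obtain ⟨d₁, d₂, h1, h2, rfl⟩ := Nat.dvd_mul.mp h
  obtain ⟨i, -, rfl⟩ := (Nat.dvd_prime_pow hq).mp h1
  obtain ⟨j, -, rfl⟩ := (Nat.dvd_prime_pow hr).mp h2
  exact ⟨i, j, rfl⟩

theorem irr_one_ne (hnc : ¬ IsMulCommutative G) {χ : IrrCharacter G}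
    (hne : χ ≠ trivIrr G) : charDegree (χ : G → ℂ) ≠ 1 := by
  intro h1
  rw [← deg_eq_charDegree] at h1
  have hd1 : (χ : G → ℂ) 1 = 1 := by rw [deg_eq (isCharacter_of_isIrr χ.2), h1, Nat.cast_one]
  refine hne (Subtype.ext (funext fun g => ?_))
  exact (linear_trivial_on_commutator (isCharacter_of_isIrr χ.2) hd1 g
    (FewSylow.Big.perfect hnc ▸ Subgroup.mem_top g)).trans hd1

theorem not_solvable (hnc : ¬ IsMulCommutative G) {q r x y : ℕ} (hq : q.Prime) (hr : r.Prime) :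
    Nat.card G ≠ q ^ x * r ^ y := fun h =>
  hnc (IsSimpleGroup.comm_iff_isSolvable.mpr
    (CT.isSolvable_of_card_two_primes hq hr (Nat.card G) G x y rfl h) |> fun hc => ⟨⟨hc⟩⟩)

/-- Three divides the order of a non-abelian simple group with a small Sylow 2-subgroup. -/
theorem three_dvd (hnc : ¬ IsMulCommutative G) (h2 : Even (Nat.card G)) (h8 : ¬ 8 ∣ Nat.card G) :
    3 ∣ Nat.card G := by
  obtain ⟨T⟩ : Nonempty (Sylow 2 G) := inferInstance
  obtain ⟨-, h⟩ := Cfsg.Agent.S0992.result hnc h2 h8 T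
  rw [← h]
  exact (Subgroup.relIndex_dvd_card _ _).trans (Subgroup.card_subgroup_dvd_card _)

theorem card_sixty (hnc : ¬ IsMulCommutative G) {p x y : ℕ} (hp : p.Prime) (hp5 : 5 ≤ p)
    (hG : Nat.card G = 4 * (3 ^ x * p ^ y)) : Nat.card G = 60 := by
  haveI : Fact (Nat.Prime 2) := ⟨Nat.prime_two⟩
  obtain ⟨M, hM⟩ := Blocks.exists_isPModular Nat.prime_two
  haveI : M.IsPrime := hM.2.1.isPrime
  set g₀ := 3 ^ x * p ^ y with hg₀
  have hodd : Odd g₀ := ((show Odd 3 by decide).pow).mul ((hp.odd_of_ne_two (by omega)).pow)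
  have hg1 : 1 < g₀ := by
    by_contra hle
    have : g₀ = 1 := by have := hodd.pos; omega
    refine not_solvable (q := 2) (r := 3) (x := 2) (y := 0) hnc Nat.prime_two Nat.prime_three ?_
    rw [hG, this]; norm_num
  have hnN : ¬ ∃ N : Subgroup G, N.Normal ∧ Nat.card N = g₀ := by
    rintro ⟨N, hN, hc⟩
    rcases hN.eq_bot_or_eq_top with h | h
    · rw [h, Subgroup.card_bot] at hc; omega
    · rw [h, Subgroup.card_top, hG] at hc; omega
  obtain ⟨P⟩ : Nonempty (Sylow 2 G) := inferInstance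
  obtain ⟨hK, hone⟩ := klein_of_no_complement hodd hG hnN P
  haveI := hK
  obtain ⟨z₀, hz₀⟩ := exists_prime_orderOf_dvd_card' (G := (P : Subgroup G)) 2
    (by rw [hK.card_four]; norm_num)
  set J : G := (z₀ : G) with hJdef
  have hJ2 : orderOf J = 2 := by rw [← hz₀, Subgroup.orderOf_coe]
  obtain ⟨a, b, c, ε, hε, ha, hb, hab, hac, hbc, hB, hval, hda, hdb, hdc, hrel⟩ :=
    klein_four_block hM P hK hone
  obtain ⟨hva, hvb, hvc⟩ := hval J hJ2
  have hc : (c : G → ℂ) ≠ fun _ => 1 := fun e => by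
    have := congrFun e J
    rw [hvc] at this
    norm_num at this
  obtain ⟨N, k, hN, hk, hz, hkey, -, -⟩ := klein_order_key hM P hK hone (J := J) z₀.2 hJ2 a b c
    1 ε (-1) hB ⟨ha, hb, hc, hab, hac, hbc⟩ ⟨Or.inl rfl, hε, Or.inr rfl⟩
    ⟨by rw [hva, Int.cast_one], hvb, by rw [hvc, Int.cast_neg, Int.cast_one]⟩
  set A := charDegree (a : G → ℂ) with hA
  set B := charDegree (b : G → ℂ) with hB'
  set C := charDegree (c : G → ℂ) with hC
  have hA0 := charDegree_pos a
  have hB0 := charDegree_pos b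
  have hC0 := charDegree_pos c
  -- the product formula
  have hprod : (k : ℤ) * (((A : ℤ) + 1) * ((B : ℤ) + ε) * ((C : ℤ) + (-1))) =
      8 * (N : ℤ) ^ 2 * (A * B * C) := by
    have hQ : (k : ℚ) * (((A : ℚ) + 1) * ((B : ℚ) + ε) * ((C : ℚ) + (-1))) =
        8 * (N : ℚ) ^ 2 * (A * B * C) := by
      have h1 : (A : ℚ) ≠ 0 := Nat.cast_ne_zero.mpr hA0.ne'
      have h2 : (B : ℚ) ≠ 0 := Nat.cast_ne_zero.mpr hB0.ne'
      have h3 : (C : ℚ) ≠ 0 := Nat.cast_ne_zero.mpr hC0.ne'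
      have hr : (1 : ℚ) + A + ε * B - C = 0 := by
        have h' : (1 : ℤ) + A + ε * B - C = 0 := by linarith
        exact_mod_cast h'
      push_cast at hkey
      rw [← hkey]
      field_simp
      rcases hε with rfl | rfl
      · push_cast at hr ⊢; linear_combination (-(k : ℚ)) * hr
      · push_cast at hr ⊢; linear_combination (k : ℚ) * hr
    exact_mod_cast hQ
  have hkdvd : k ∣ Nat.card G := ⟨_, hk.symm⟩
  have hNdvd : N ∣ Nat.card G :=
    (Dvd.intro _ hN).trans (Subgroup.card_subgroup_dvd_card _)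
  have hk0 : 0 < k := Nat.pos_of_ne_zero fun h => by
    rw [h, zero_mul] at hk; exact Nat.card_pos.ne' hk.symm
  have hdiv : ∀ χ : IrrCharacter G, charDegree (χ : G → ℂ) ∣ Nat.card G :=
    fun χ => charDegree_dvd_card χ
  -- the factors of the sum of a degree and its sign
  have hshape : ∀ (χ : IrrCharacter G) (e : ℤ), χ ≠ trivIrr G → (e = 1 ∨ e = -1) →
      (4 : ℤ) ∣ (charDegree (χ : G → ℂ) : ℤ) - e →
      ((charDegree (χ : G → ℂ) : ℤ) + e) ∣ 8 * (N : ℤ) ^ 2 * (A * B * C) →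
      IsThree p (charDegree (χ : G → ℂ)) e ∨ IsPPow p (charDegree (χ : G → ℂ)) e := by
    intro χ e hne he h4 hd
    set d := charDegree (χ : G → ℂ)
    have h1 := irr_one_ne hnc hne
    have h0 := charDegree_pos χ
    obtain ⟨t, ht⟩ := h4
    obtain ⟨i, j, hij⟩ : ∃ i j, d = 3 ^ i * p ^ j := by
      refine fac_of_dvd (x := x) (y := y) Nat.prime_three hp ?_
      have h : d ∣ 2 ^ 2 * g₀ := by have := hdiv χ; rwa [hG] at this
      refine (Nat.Coprime.pow_right 2 ?_).dvd_of_dvd_mul_left h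
      rw [Nat.coprime_two_right, Nat.odd_iff]
      omega
    obtain ⟨m, hm⟩ : ∃ m : ℕ, (d : ℤ) + e = 2 * (m : ℤ) ∧ Odd m := by
      refine ⟨(((d : ℤ) + e) / 2).toNat, ?_, ?_⟩
      · omega
      · rw [Nat.odd_iff]; omega
    obtain ⟨k', l, hkl⟩ : ∃ k' l, m = 3 ^ k' * p ^ l := by
      refine fac_of_dvd (x := x * 5) (y := y * 5) Nat.prime_three hp ?_
      have h2 : m ∣ 8 * N ^ 2 * (A * B * C) := by
        have h3 : (m : ℤ) ∣ 8 * (N : ℤ) ^ 2 * (A * B * C) :=
          (Dvd.intro_left 2 hm.1.symm).trans hd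
        exact_mod_cast h3
      have h4 : m ∣ 8 * (4 * g₀) ^ 5 := by
        refine h2.trans ?_
        rw [← hG, mul_assoc, show Nat.card G ^ 5 = Nat.card G ^ 2 * (Nat.card G * Nat.card G * Nat.card G)
          by ring]
        exact mul_dvd_mul dvd_rfl (mul_dvd_mul (pow_dvd_pow_of_dvd hNdvd 2)
          (mul_dvd_mul (mul_dvd_mul (hdiv a) (hdiv b)) (hdiv c)))
      have h5 : 8 * (4 * g₀) ^ 5 = 2 ^ 13 * g₀ ^ 5 := by ring
      rw [h5] at h4
      have h6 := (Nat.Coprime.pow_right 13 (Nat.coprime_two_right.mpr hm.2)).dvd_of_dvd_mul_left h4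
      rwa [hg₀, mul_pow, ← pow_mul, ← pow_mul] at h6
    refine shape hp hp5 he h1 hij (k := k') (l := l) ?_
    rw [hm.1, hkl]; push_cast; ring
  have hne' : ∀ χ : IrrCharacter G, (χ : G → ℂ) ≠ (fun _ => 1) → χ ≠ trivIrr G := fun χ h e =>
    h (e ▸ funext fun x => CT.trivIrr_apply _ x)
  have sa := hshape a 1 (hne' a ha) (Or.inl rfl) hda
    ⟨(k : ℤ) * ((B + ε) * (C + (-1))), by rw [← hprod]; ring⟩
  have sb := hshape b ε (hne' b hb) hε hdb
    ⟨(k : ℤ) * ((A + 1) * (C + (-1))), by rw [← hprod]; ring⟩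
  have sc := hshape c (-1) (hne' c hc) (Or.inr rfl) (by simpa using hdc)
    ⟨(k : ℤ) * ((A + 1) * (B + ε)), by rw [← hprod]; ring⟩
  obtain ⟨rfl, hcases⟩ := degrees hp hp5 (Or.inl rfl) hε (Or.inr rfl) sa sb sc
    (by rw [one_mul]; linarith)
  -- the unique character of degree five
  obtain ⟨χ, hχB, hχne, hχ5, huniq⟩ : ∃ χ : IrrCharacter G, χ ∈ principalBlock M G ∧
      χ ≠ trivIrr G ∧ charDegree (χ : G → ℂ) = 5 ∧
      ∀ ψ ∈ principalBlock M G, charDegree (ψ : G → ℂ) = charDegree (χ : G → ℂ) → ψ = χ := by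
    have htriv : ∀ ψ : IrrCharacter G, (ψ : G → ℂ) = (fun _ => 1) → charDegree (ψ : G → ℂ) = 1 :=
      fun ψ h => by rw [← deg_eq_charDegree]; simp [CT.deg, h]
    rcases hcases with ⟨h1, h2, h3⟩ | ⟨h1, h2, h3⟩ | ⟨h1, h2, h3⟩
    · refine ⟨a, hB ▸ Or.inr (Or.inl rfl), hne' a ha, h1, fun ψ hψ hd => ?_⟩
      rw [hB] at hψ
      rcases hψ with h | rfl | rfl | rfl
      · rw [htriv ψ h] at hd; omega
      all_goals first | rfl | omega
    · refine ⟨b, hB ▸ Or.inr (Or.inr (Or.inl rfl)), hne' b hb, h2, fun ψ hψ hd => ?_⟩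
      rw [hB] at hψ
      rcases hψ with h | rfl | rfl | rfl
      · rw [htriv ψ h] at hd; omega
      all_goals first | rfl | omega
    · refine ⟨c, hB ▸ Or.inr (Or.inr (Or.inr rfl)), hne' c hc, h3, fun ψ hψ hd => ?_⟩
      rw [hB] at hψ
      rcases hψ with h | rfl | rfl | rfl
      · rw [htriv ψ h] at hd; omega
      all_goals first | rfl | omega
  have b5 := sylow_bound hχne hχB huniq (show Nat.Prime 5 by norm_num)
  have b3 := sylow_bound hχne hχB huniq Nat.prime_three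
  rw [hχ5] at b5 b3
  norm_num [Finset.sum_range_succ, -Nat.card_eq_fintype_card] at b5 b3
  have hf : ∀ r : ℕ, (Nat.card G).factorization r =
      Nat.factorization 4 r + (x * Nat.factorization 3 r + y * Nat.factorization 5 r) := by
    intro r
    rw [hG, hg₀, Nat.factorization_mul (by norm_num) (by positivity),
      Nat.factorization_mul (by positivity) (by positivity), Nat.factorization_pow,
      Nat.factorization_pow]
    simp
  have hx : x ≤ 2 := by
    have := hf 3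
    rw [Nat.prime_three.factorization_self,
      Nat.factorization_eq_zero_of_not_dvd (show ¬ 3 ∣ 5 by norm_num),
      Nat.factorization_eq_zero_of_not_dvd (show ¬ 3 ∣ 4 by norm_num)] at this
    omega
  have hy : y ≤ 1 := by
    have := hf 5
    rw [(show Nat.Prime 5 by norm_num).factorization_self,
      Nat.factorization_eq_zero_of_not_dvd (show ¬ 5 ∣ 3 by norm_num),
      Nat.factorization_eq_zero_of_not_dvd (show ¬ 5 ∣ 4 by norm_num)] at this
    omega
  have hle : Nat.card G ≤ 180 ∧ Nat.card G ≠ 168 := by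
    rw [hG]
    interval_cases x <;> interval_cases y <;> norm_num [hg₀]
  rcases Cfsg.Agent.S0496.result hnc (by omega) with h | h | h | h | h | h <;> omega

end Cfsg.Agent.Blocks.FourTimes
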