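import Cfsg.Agent.Lib.Blocks.FourTimes.Main

/-!
# No simple group has order `3 · 2^b · p²`
-/

set_option autoImplicit false
set_option linter.unusedSectionVars false

namespace Cfsg.Agent.Blocks.FourTimes

open scoped Cfsg.Agent.Blocks.D1
open CT Blocks

universe u

variable {G : Type u} [Group G] [Fintype G] [IsSimpleGroup G]

theorem degree_p {p i j i' j' A B : ℕ} (hp : p.Prime) (hp5 : 5 ≤ p) (hj : j ≤ 2) (hj' : j' ≤ 2)
    (hA1 : A ≠ 1) (hAB : A + 1 = B) (hA : A = 2 ^ i * p ^ j) (hB : B = 2 ^ i' * p ^ j') :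
    p = A ∨ p = B := by
  have hA0 : A ≠ 0 := by rw [hA]; exact mul_ne_zero (by positivity) (pow_ne_zero _ hp.ne_zero)
  have hii : i = 0 ∨ i' = 0 := by
    by_contra hc
    push Not at hc
    have h1 : 2 ∣ A := hA ▸ (dvd_pow_self 2 hc.1).mul_right _
    have h2 : 2 ∣ B := hB ▸ (dvd_pow_self 2 hc.2).mul_right _
    omega
  have hjj : j = 0 ∨ j' = 0 := by
    by_contra hc
    push Not at hc
    have h1 : p ∣ A := hA ▸ (dvd_pow_self p hc.1).mul_left _
    have h2 : p ∣ A + 1 := by rw [hAB, hB]; exact (dvd_pow_self p hc.2).mul_left _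
    have := Nat.le_of_dvd one_pos ((Nat.dvd_add_right h1).mp h2)
    omega
  have hsq : ∀ m : ℕ, p ^ 2 + 1 ≠ 2 ^ m ∧ p ^ 2 ≠ 2 ^ m + 1 := by
    obtain ⟨c, hc⟩ := hp.odd_of_ne_two (by omega)
    intro m
    refine ⟨fun h => ?_, fun h => ?_⟩
    · rcases m with _ | _ | m
      · rw [pow_zero] at h; nlinarith
      · rw [zero_add, pow_one] at h; nlinarith
      · obtain ⟨w, h4⟩ : 4 ∣ p ^ 2 + 1 := h ▸ ⟨2 ^ m, by ring⟩
        have h5 : p ^ 2 + 1 = 4 * (c * c + c) + 2 := by rw [hc]; ring
        rw [h5] at h4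
        omega
    · have h1 : p - 1 ∣ 2 ^ m := ⟨p + 1, by
        have h' := Nat.sq_sub_sq p 1
        rw [one_pow, h] at h'
        rw [Nat.add_sub_cancel] at h'
        rw [h', mul_comm]⟩
      have h2 : p + 1 ∣ 2 ^ m := ⟨p - 1, by
        have h' := Nat.sq_sub_sq p 1
        rw [one_pow, h] at h'
        rw [Nat.add_sub_cancel] at h'
        rw [h']⟩
      obtain ⟨s, -, hs⟩ := (Nat.dvd_prime_pow Nat.prime_two).mp h1
      obtain ⟨t, -, ht⟩ := (Nat.dvd_prime_pow Nat.prime_two).mp h2
      rcases s with _ | _ | s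
      · norm_num at hs; omega
      · norm_num at hs; omega
      · rcases t with _ | _ | t
        · norm_num at ht; omega
        · norm_num at ht; omega
        · have : 4 ∣ p - 1 := hs ▸ ⟨2 ^ s, by ring⟩
          have : 4 ∣ p + 1 := ht ▸ ⟨2 ^ t, by ring⟩
          omega
  rcases hii with rfl | rfl <;> rcases hjj with rfl | rfl <;>
    simp only [pow_zero, mul_one, one_mul] at hA hB
  · exact absurd hA hA1
  · -- `A = p ^ j`, `B = 2 ^ i'`
    interval_cases j
    · exact absurd (by simpa using hA) hA1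
    · exact Or.inl (by simpa using hA.symm)
    · exact absurd (show p ^ 2 + 1 = 2 ^ i' by omega) (hsq i').1
  · -- `A = 2 ^ i`, `B = p ^ j'`
    interval_cases j'
    · simp at hB; omega
    · exact Or.inr (by simpa using hB.symm)
    · exact absurd (show p ^ 2 = 2 ^ i + 1 by omega) (hsq i).2
  · omega

set_option maxHeartbeats 1000000 in
theorem not_sq (hnc : ¬ IsMulCommutative G) {p b : ℕ} (hp : p.Prime) (hp5 : 5 ≤ p) :
    Nat.card G ≠ 3 * 2 ^ b * p ^ 2 := by
  intro hG
  haveI : Fact (Nat.Prime 3) := ⟨Nat.prime_three⟩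
  obtain ⟨M, hM⟩ := Blocks.exists_isPModular Nat.prime_three
  haveI : M.IsPrime := hM.2.1.isPrime
  obtain ⟨P⟩ : Nonempty (Sylow 3 G) := inferInstance
  have hn3 : ¬ 3 ∣ 2 ^ b * p ^ 2 := fun h => by
    rcases Nat.prime_three.dvd_mul.mp h with h | h
    · have := Nat.le_of_dvd two_pos (Nat.prime_three.dvd_of_dvd_pow h); omega
    · have := (Nat.prime_dvd_prime_iff_eq Nat.prime_three hp).mp (Nat.prime_three.dvd_of_dvd_pow h)
      omega
  have hfac : (Nat.card G).factorization 3 = 1 := by
    rw [hG, mul_assoc, Nat.factorization_mul (by norm_num)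
      (mul_ne_zero (by positivity) (pow_ne_zero _ hp.ne_zero)), Finsupp.coe_add, Pi.add_apply,
      Nat.prime_three.factorization_self, Nat.factorization_eq_zero_of_not_dvd hn3]
  have hP : Nat.card P = 3 := by rw [P.card_eq_multiplicity, hfac, pow_one]
  obtain ⟨X, Y, sX, s, he, hXY, hdis, hXc, hYc, hX, hs, hY, hag, hrel⟩ :=
    D1.exists_principal_structure hM P hP rfl
  set e := (D1.cC P).relIndex (D1.cN P)
  -- the degree relation
  have htriv : charDegree ((trivIrr G : IrrCharacter G) : G → ℂ) = 1 := by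
    rw [← deg_eq_charDegree]; simp [CT.deg]
  have hmem : trivIrr G ∈ X ∪ Y := hXY ▸ trivIrr_mem_principalBlock
  have hval : ∀ χ : IrrCharacter G, (χ : G → ℂ) 1 = (charDegree (χ : G → ℂ) : ℂ) := fun χ => by
    rw [← deg_eq_charDegree]; exact deg_eq (isCharacter_of_isIrr χ.2)
  rcases (Nat.dvd_prime Nat.prime_two).mp he with he1 | he2
  · -- one character of the first kind
    rw [he1] at hXc hYc
    obtain ⟨x, rfl⟩ := Set.ncard_eq_one.mp ((Nat.card_coe_set_eq X).symm.trans hXc)
    obtain ⟨y₁, y₂, hy, rfl⟩ := Set.ncard_eq_two.mp ((Nat.card_coe_set_eq Y).symm.trans hYc)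
    have h12 := hag y₁ (by simp) y₂ (by simp) 1 (by simp)
    rw [hval, hval, Nat.cast_inj] at h12
    have h := hrel y₁ (by simp) 1 (by simp)
    rw [finsum_mem_singleton, hval, hval] at h
    obtain ⟨hsx, -, -⟩ := hX x rfl
    have hxy : charDegree (x : G → ℂ) = charDegree (y₁ : G → ℂ) := by
      have h' : s * (charDegree (y₁ : G → ℂ) : ℤ) = sX x * (charDegree (x : G → ℂ) : ℤ) := by
        exact_mod_cast h
      rcases hs with rfl | rfl <;> rcases hsx with e | e <;> rw [e] at h' <;> omega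
    have hall : ∀ χ ∈ ({x} : Set (IrrCharacter G)) ∪ {y₁, y₂}, charDegree (χ : G → ℂ) = 1 := by
      have hone : charDegree (x : G → ℂ) = 1 := by
        rcases hmem with h | h | h
        · rw [← Set.mem_singleton_iff.mp h, htriv]
        · rw [hxy, ← h, htriv]
        · rw [hxy, h12, ← Set.mem_singleton_iff.mp h, htriv]
      rintro χ (rfl | rfl | rfl)
      · exact hone
      · rw [← hxy, hone]
      · rw [← h12, ← hxy, hone]
    obtain ⟨χ, hχ, hne⟩ : ∃ χ ∈ ({y₁, y₂} : Set (IrrCharacter G)), χ ≠ trivIrr G := by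
      by_cases h1 : y₁ = trivIrr G
      · exact ⟨y₂, by simp, fun h2 => hy (h1.trans h2.symm)⟩
      · exact ⟨y₁, by simp, h1⟩
    exact irr_one_ne hnc hne (hall χ (Or.inr hχ))
  · -- two characters of the first kind
    rw [he2] at hXc hYc
    obtain ⟨x₁, x₂, hx, rfl⟩ := Set.ncard_eq_two.mp ((Nat.card_coe_set_eq X).symm.trans hXc)
    obtain ⟨y, rfl⟩ := Set.ncard_eq_one.mp ((Nat.card_coe_set_eq Y).symm.trans hYc)
    have h := hrel y rfl 1 (by simp)
    rw [finsum_mem_pair hx, hval, hval, hval] at h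
    obtain ⟨hs1, hm1, -⟩ := hX x₁ (by simp)
    obtain ⟨hs2, hm2, -⟩ := hX x₂ (by simp)
    have hm3 := hY y rfl
    rw [he2] at hm3
    have hn1 : ¬ 3 ∣ charDegree (x₁ : G → ℂ) := fun h3 => by
      have := hm1.symm.dvd; rcases hs1 with e | e <;> rw [e] at this <;> omega
    have hn2 : ¬ 3 ∣ charDegree (x₂ : G → ℂ) := fun h3 => by
      have := hm2.symm.dvd; rcases hs2 with e | e <;> rw [e] at this <;> omega
    have hny : ¬ 3 ∣ charDegree (y : G → ℂ) := fun h3 => by
      have := hm3.symm.dvd; rcases hs with rfl | rfl <;> push_cast at this <;> omega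
    have h' : s * (charDegree (y : G → ℂ) : ℤ) =
        sX x₁ * (charDegree (x₁ : G → ℂ) : ℤ) + sX x₂ * (charDegree (x₂ : G → ℂ) : ℤ) := by
      exact_mod_cast h
    have hy1 : x₁ ≠ y := fun h => Set.disjoint_left.mp hdis (Set.mem_insert x₁ _) h
    have hy2 : x₂ ≠ y := fun h =>
      Set.disjoint_left.mp hdis (Set.mem_insert_of_mem _ (Set.mem_singleton x₂)) h
    -- name the two non-principal characters
    obtain ⟨u, v, hu, hv, hadj, hun, hvn, hblock⟩ : ∃ u v : IrrCharacter G, u ≠ trivIrr G ∧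
        v ≠ trivIrr G ∧ charDegree (u : G → ℂ) + 1 = charDegree (v : G → ℂ) ∧
        ¬ 3 ∣ charDegree (u : G → ℂ) ∧ ¬ 3 ∣ charDegree (v : G → ℂ) ∧
        principalBlock M G = {trivIrr G, u, v} := by
      have hpick : ∀ u v : IrrCharacter G, u ≠ trivIrr G → v ≠ trivIrr G →
          (charDegree (u : G → ℂ) + 1 = charDegree (v : G → ℂ) ∨
            charDegree (v : G → ℂ) + 1 = charDegree (u : G → ℂ) ∨
            charDegree (u : G → ℂ) + charDegree (v : G → ℂ) = 1) →
          ¬ 3 ∣ charDegree (u : G → ℂ) → ¬ 3 ∣ charDegree (v : G → ℂ) →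
          principalBlock M G = {trivIrr G, u, v} →
          ∃ u v : IrrCharacter G, u ≠ trivIrr G ∧ v ≠ trivIrr G ∧
            charDegree (u : G → ℂ) + 1 = charDegree (v : G → ℂ) ∧
            ¬ 3 ∣ charDegree (u : G → ℂ) ∧ ¬ 3 ∣ charDegree (v : G → ℂ) ∧
            principalBlock M G = {trivIrr G, u, v} := by
        intro u v hu hv hd hun hvn hb
        rcases hd with hd | hd | hd
        · exact ⟨u, v, hu, hv, hd, hun, hvn, hb⟩
        · exact ⟨v, u, hv, hu, hd, hvn, hun, by rw [hb, Set.pair_comm u v]⟩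
        · have := charDegree_pos u; have := charDegree_pos v; omega
      rcases hmem with (h1 | h1) | h1
      · subst h1
        rw [htriv] at h'
        refine hpick x₂ y hx.symm hy1.symm ?_ hn2 hny ?_
        · rcases hs with rfl | rfl <;> rcases hs1 with e1 | e1 <;> rcases hs2 with e2 | e2 <;>
            rw [e1, e2] at h' <;> omega
        · rw [hXY, Set.union_singleton]; ext χ; simp; tauto
      · rw [Set.mem_singleton_iff] at h1
        subst h1
        rw [htriv] at h'
        refine hpick x₁ y hx hy2.symm ?_ hn1 hny ?_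
        · rcases hs with rfl | rfl <;> rcases hs1 with e1 | e1 <;> rcases hs2 with e2 | e2 <;>
            rw [e1, e2] at h' <;> omega
        · rw [hXY, Set.union_singleton]; ext χ; simp; tauto
      · rw [Set.mem_singleton_iff] at h1
        subst h1
        rw [htriv] at h'
        refine hpick x₁ x₂ hy1 hy2 ?_ hn1 hn2 ?_
        · rcases hs with rfl | rfl <;> rcases hs1 with e1 | e1 <;> rcases hs2 with e2 | e2 <;>
            rw [e1, e2] at h' <;> omega
        · rw [hXY, Set.union_singleton]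
    -- the degrees are `2 ^ i` and `p`
    set A := charDegree (u : G → ℂ) with hA
    set B := charDegree (v : G → ℂ) with hB
    have hA1 := irr_one_ne hnc hu
    have hA0 := charDegree_pos u
    have hfacs : ∀ χ : IrrCharacter G, ¬ 3 ∣ charDegree (χ : G → ℂ) →
        ∃ i j, j ≤ 2 ∧ charDegree (χ : G → ℂ) = 2 ^ i * p ^ j := by
      intro χ h3
      have hd : charDegree (χ : G → ℂ) ∣ 3 * (2 ^ b * p ^ 2) := by
        rw [← mul_assoc, ← hG]; exact charDegree_dvd_card χ
      obtain ⟨d₁, d₂, h1, h2, h12⟩ := Nat.dvd_mul.mp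
        ((Nat.Coprime.symm (Nat.prime_three.coprime_iff_not_dvd.mpr h3)).dvd_of_dvd_mul_left hd)
      obtain ⟨i, -, rfl⟩ := (Nat.dvd_prime_pow Nat.prime_two).mp h1
      obtain ⟨j, hj, rfl⟩ := (Nat.dvd_prime_pow hp).mp h2
      exact ⟨i, j, hj, h12.symm⟩
    obtain ⟨i, j, hj, hAe⟩ := hfacs u hun
    obtain ⟨i', j', hj', hBe⟩ := hfacs v hvn
    obtain ⟨w, hwne, hwB, hwp, hwuniq⟩ : ∃ w : IrrCharacter G, w ≠ trivIrr G ∧
        w ∈ principalBlock M G ∧ charDegree (w : G → ℂ) = p ∧
        ∀ ψ ∈ principalBlock M G, charDegree (ψ : G → ℂ) = charDegree (w : G → ℂ) → ψ = w := by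
      have hp' : p = A ∨ p = B := degree_p hp hp5 hj hj' hA1 hadj hAe hBe
      rcases hp' with hp' | hp'
      · refine ⟨u, hu, hblock ▸ by simp, hp'.symm, fun ψ hψ hd => ?_⟩
        rw [hblock] at hψ
        rcases hψ with rfl | rfl | rfl
        · rw [htriv] at hd; omega
        · rfl
        · omega
      · refine ⟨v, hv, hblock ▸ by simp, hp'.symm, fun ψ hψ hd => ?_⟩
        rw [hblock] at hψ
        rcases hψ with rfl | rfl | rfl
        · rw [htriv] at hd; omega
        · omega
        · rfl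
    have hb2 := sylow_bound hwne hwB hwuniq hp
    rw [hwp, Finset.sum_eq_single 0, pow_zero, mul_one] at hb2
    · have hfp : (Nat.card G).factorization p = 2 := by
        rw [hG, Nat.factorization_mul (by positivity) (pow_ne_zero _ hp.ne_zero), Finsupp.coe_add,
          Pi.add_apply, Nat.factorization_eq_zero_of_not_dvd, hp.factorization_pow,
          Finsupp.single_eq_same, zero_add]
        intro h
        rcases hp.dvd_mul.mp h with h | h
        · have := Nat.le_of_dvd (by norm_num) h; omega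
        · have := Nat.le_of_dvd two_pos (hp.dvd_of_dvd_pow h); omega
      have h3 : p / (p - 1) < 2 := by
        rw [Nat.div_lt_iff_lt_mul (by omega)]; omega
      omega
    · intro k _ hk
      refine Nat.div_eq_of_lt ?_
      calc p = 1 * p ^ 1 := by ring
        _ < (p - 1) * p ^ k := Nat.mul_lt_mul_of_lt_of_le (by omega)
            (Nat.pow_le_pow_right hp.pos (by omega)) (pow_pos hp.pos k)
    · simp

end Cfsg.Agent.Blocks.FourTimes
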